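import Cfsg.Agent.Lib.SThreeFree21.Row2757
import Cfsg.Agent.Lib.LAEven54.Inverted
import Cfsg.Agent.Lib.Balance.Basic

/-!
# Groups without real elements of order three

The condition passes to subgroups and quotients, two-elements centralise the `3`-subgroups they
normalise, and `Sym(3)` is not involved.
-/

set_option autoImplicit false
set_option linter.unusedSectionVars false

namespace Cfsg.Agent.Lib.NoRealThree57

open Cfsg Cfsg.Agent.Lib.LAEven54.Inverted
open scoped Pointwise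

universe u

/-- No element of order three is conjugate to its inverse. -/
def NR (G : Type*) [Group G] : Prop :=
  ∀ x g : G, orderOf x = 3 → g * x * g⁻¹ ≠ x⁻¹

/-- The group is generated by its two-elements. -/
def Gen2 (G : Type*) [Group G] : Prop :=
  Subgroup.closure {g : G | ∃ k : ℕ, orderOf g = 2 ^ k} = ⊤

theorem nr_iff {G : Type*} [Group G] :
    NR G ↔ ∀ x : G, orderOf x = 3 → ¬ IsConj x x⁻¹ := by
  constructor
  · intro h x hx hc
    obtain ⟨g, hg⟩ := isConj_iff.1 hc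
    exact h x g hx hg
  · intro h x g hx hg
    exact h x hx (isConj_iff.2 ⟨g, hg⟩)

theorem NR.of_injective {G H : Type*} [Group G] [Group H] (hG : NR G) (f : H →* G)
    (hf : Function.Injective f) : NR H := fun x g hx hg => by
  refine hG (f x) (f g) ((orderOf_injective f hf x).trans hx) ?_
  rw [← map_inv, ← map_mul, ← map_mul, hg, map_inv]

theorem NR.subgroup {G : Type*} [Group G] (hG : NR G) (H : Subgroup G) : NR ↥H :=
  hG.of_injective H.subtype H.subtype_injective

theorem gen2_of_surjective {G H : Type*} [Group G] [Group H] [Finite G] (hG : Gen2 G) (f : G →* H)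
    (hf : Function.Surjective f) : Gen2 H := by
  unfold Gen2 at *
  rw [eq_top_iff, ← Subgroup.map_top_of_surjective f hf, ← hG, MonoidHom.map_closure]
  refine Subgroup.closure_mono ?_
  rintro _ ⟨g, ⟨k, hk⟩, rfl⟩
  obtain ⟨j, -, hj⟩ := (Nat.dvd_prime_pow Nat.prime_two).1 (hk ▸ orderOf_map_dvd f g)
  exact ⟨j, hj⟩

section Finite

variable {G : Type u} [Group G] [Finite G]

/-- No nontrivial element of `3`-power order is inverted. -/
theorem NR.conj_ne_inv (hG : NR G) {y : G} (hy : ∃ k : ℕ, orderOf y = 3 ^ k) (hy1 : y ≠ 1)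
    (g : G) : g * y * g⁻¹ ≠ y⁻¹ := by
  haveI : Fact (Nat.Prime 3) := ⟨Nat.prime_three⟩
  intro h
  obtain ⟨m, hm⟩ := exists_orderOf_prime hy hy1
  exact hG (y ^ m) g hm (by rw [← conj_pow, h, inv_pow])

/-- A two-element normalising a `3`-subgroup centralises it. -/
theorem NR.mem_centralizer (hG : NR G) {x : G} {P : Subgroup G} (hx : ∃ k : ℕ, orderOf x = 2 ^ k)
    (hP : IsPGroup 3 ↥P) (hxP : x ∈ Subgroup.normalizer (P : Set G)) :
    x ∈ Subgroup.centralizer (P : Set G) := by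
  haveI : Fact (Nat.Prime 3) := ⟨Nat.prime_three⟩
  by_contra hxC
  obtain ⟨x', y, -, hyP, -, hy1, hxy⟩ := exists_inverted_of_normalizer hx hP hxP hxC
  obtain ⟨k, hk⟩ := IsPGroup.iff_orderOf.1 hP ⟨y, hyP⟩
  rw [Subgroup.orderOf_mk] at hk
  exact hG.conj_ne_inv ⟨k, hk⟩ hy1 x' hxy

/-- `Sym(3)` is not involved. -/
theorem NR.not_involves (hG : NR G) : ¬ Cfsg.Involves (Equiv.Perm (Fin 3)) G := by
  haveI : Fact (Nat.Prime 3) := ⟨Nat.prime_three⟩
  obtain ⟨T⟩ : Nonempty (Sylow 3 G) := inferInstance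
  refine SThreeFree21.not_involves_three T fun x hx hx1 g _ => ?_
  obtain ⟨k, hk⟩ := IsPGroup.iff_orderOf.1 T.2 ⟨x, hx⟩
  rw [Subgroup.orderOf_mk] at hk
  exact hG.conj_ne_inv ⟨k, hk⟩ hx1 g

/-- An odd power of an inverting element inverts. -/
theorem conj_odd_pow {Q : Type*} [Group Q] {x g : Q} (h : g * x * g⁻¹ = x⁻¹) {m : ℕ}
    (hm : Odd m) : g ^ m * x * (g ^ m)⁻¹ = x⁻¹ := by
  obtain ⟨j, rfl⟩ := hm
  have h2 : Commute (g ^ 2) x := by
    rw [Commute, SemiconjBy, ← mul_inv_eq_iff_eq_mul, ← conj_two, h, ← conj_inv, h, inv_inv]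
  rw [pow_succ', pow_mul, mul_assoc g, (h2.pow_left j).eq]
  rw [← h]
  group

/-- The condition passes to homomorphic images. -/
theorem NR.of_surjective {Q : Type*} [Group Q] (hG : NR G) (f : G →* Q)
    (hf : Function.Surjective f) : NR Q := by
  haveI : Fact (Nat.Prime 3) := ⟨Nat.prime_three⟩
  intro xb gb hxb hgb
  let H : Subgroup G :=
    (Subgroup.normalizer ((Subgroup.zpowers xb : Subgroup Q) : Set Q)).comap f
  let f' : ↥H →* Q := f.comp H.subtype
  let K : Subgroup ↥H := (Subgroup.zpowers xb).comap f'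
  haveI : K.Normal := ⟨fun k hk h => by
    show f' (h * k * h⁻¹) ∈ Subgroup.zpowers xb
    rw [map_mul, map_mul, map_inv]
    exact ((Subgroup.mem_normalizer_iff.1 (show f' h ∈ _ from h.2)) (f' k)).1 hk⟩
  obtain ⟨g0, hg0⟩ := hf gb
  obtain ⟨x0, hx0⟩ := hf xb
  have hx0H : x0 ∈ H := by
    rw [Subgroup.mem_comap, hx0]
    exact Subgroup.le_normalizer (Subgroup.mem_zpowers xb)
  have hg0H : g0 ∈ H := by
    rw [Subgroup.mem_comap, hg0, Subgroup.mem_normalizer_iff]
    have key : ∀ i : ℤ, gb * xb ^ i * gb⁻¹ = xb ^ (-i) := fun i => by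
      rw [← conj_zpow, hgb, inv_zpow, zpow_neg]
    intro z
    constructor
    · rintro ⟨i, rfl⟩
      exact ⟨-i, (key i).symm⟩
    · rintro ⟨i, hi : xb ^ i = gb * z * gb⁻¹⟩
      refine ⟨-i, ?_⟩
      have := key (-i)
      rw [neg_neg, hi] at this
      exact mul_left_cancel (mul_right_cancel this)
  -- a three-element of `K` with the same image order
  let x1 : ↥H := ⟨x0, hx0H⟩
  set m := orderOf x1 / 3 ^ (orderOf x1).factorization 3 with hm
  have h0 : orderOf x1 ≠ 0 := (orderOf_pos x1).ne'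
  have hm3 : ¬ 3 ∣ m := Nat.not_dvd_ordCompl Nat.prime_three h0
  have hord : orderOf (x1 ^ m) = 3 ^ (orderOf x1).factorization 3 := by
    rw [hm, orderOf_pow_of_dvd (Nat.div_pos (Nat.ordProj_le 3 h0) (Nat.ordProj_pos _ _)).ne'
      (Nat.ordCompl_dvd _ _), Nat.div_div_self (Nat.ordProj_dvd _ _) h0]
  have hfy : f' (x1 ^ m) = xb ^ m := by
    rw [map_pow]
    show f x0 ^ m = _
    rw [hx0]
  let y : ↥K := ⟨x1 ^ m, by
    show f' (x1 ^ m) ∈ Subgroup.zpowers xb
    rw [hfy]
    exact pow_mem (Subgroup.mem_zpowers xb) m⟩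
  have hyp : IsPGroup 3 (Subgroup.zpowers y) :=
    IsPGroup.of_card (n := (orderOf x1).factorization 3)
      (by rw [Nat.card_zpowers, ← Subgroup.orderOf_coe]; exact hord)
  obtain ⟨P, hP⟩ := hyp.exists_le_sylow
  have hN := Sylow.normalizer_sup_eq_top P
  have hmem : (⟨g0, hg0H⟩ : ↥H) ∈ (⊤ : Subgroup ↥H) := Subgroup.mem_top _
  rw [← hN, Subgroup.mem_sup_of_normal_right] at hmem
  obtain ⟨n, hn, k, hk, hnk⟩ := hmem
  obtain ⟨i, hi⟩ : f' k ∈ Subgroup.zpowers xb := hk
  have hfn : f' n * xb * (f' n)⁻¹ = xb⁻¹ := by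
    have e : f' n = gb * (xb ^ i)⁻¹ := by
      rw [show xb ^ i = f' k from hi, eq_mul_inv_iff_mul_eq, ← map_mul, hnk]
      exact hg0
    rw [e, ← hgb]
    group
  obtain ⟨r, hr, hr2⟩ := exists_two_part n
  have hP' : IsPGroup 3 ↥((P : Subgroup ↥K).map K.subtype) := P.2.map _
  have hc := (hG.subgroup H).mem_centralizer hr2 hP' (pow_mem hn r)
  have hyP : (x1 ^ m : ↥H) ∈ (P : Subgroup ↥K).map K.subtype :=
    ⟨y, hP (Subgroup.mem_zpowers y), rfl⟩
  have hcy := congrArg f' (Subgroup.mem_centralizer_iff.1 hc _ hyP)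
  rw [map_mul, map_mul, hfy, map_pow f' n r] at hcy
  have hinv : (f' n) ^ r * xb ^ m * ((f' n) ^ r)⁻¹ = (xb ^ m)⁻¹ := by
    rw [← conj_pow, conj_odd_pow hfn hr, inv_pow]
  rw [← hcy, mul_inv_cancel_right] at hinv
  have h1 : xb ^ m = 1 := by
    refine eq_one_of_eq_inv_of_odd hinv (p := 3) (k := 1) (by decide) ?_
    rw [pow_one, ← pow_mul, mul_comm, pow_mul, ← hxb, pow_orderOf_eq_one, one_pow]
  exact hm3 (hxb ▸ orderOf_dvd_of_pow_eq_one h1)

/-- A normal subgroup has trivial `p'`-core if the group has. -/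
theorem pPrimeCore_normal_eq_bot {p : ℕ} [Fact p.Prime] (hO : pPrimeCore p G = ⊥)
    (M : Subgroup G) [M.Normal] : pPrimeCore p ↥M = ⊥ := by
  have h : Balance.coreIn p M ≤ ⊥ := by
    refine (Balance.coreIn_le_coreIn (p := p) (K := ⊤) le_top ?_).trans ?_
    · rw [Subgroup.normalizer_eq_top]
    · rw [Balance.coreIn_top, hO]
  exact (Subgroup.map_eq_bot_iff_of_injective _ M.subtype_injective).1 (le_bot_iff.1 h)

/-- A nontrivial normal subgroup has order divisible by `p` if the `p'`-core is trivial. -/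
theorem dvd_card_of_normal {p : ℕ} [Fact p.Prime] (hO : pPrimeCore p G = ⊥)
    {M : Subgroup G} [M.Normal] (hM : M ≠ ⊥) : p ∣ Nat.card M := by
  by_contra h
  exact hM (le_bot_iff.1 (hO ▸ Cores.le_pPrimeCore_of_not_dvd h))

end Finite

end Cfsg.Agent.Lib.NoRealThree57
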