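import Cfsg.Agent.Lib.NoRealThree57.Model
import Cfsg.Agent.Lib.NoRealThree57.Basic
import Cfsg.Agent.Lib.Linear.Simple
import Mathlib.GroupTheory.Transfer

/-!
# Central three-extensions of products of `PSL₂(3 ^ (2 n + 1))`

A perfect central extension by a `3`-group has abelian Sylow `3`-subgroups, so is trivial by
transfer.
-/

set_option autoImplicit false
set_option linter.unusedSectionVars false
set_option linter.style.haveILetI false

namespace Cfsg.Agent.Lib.NoRealThree57

open Cfsg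
open scoped Pointwise commutatorElement IsMulCommutative

universe u v w

section Field

variable {F : Type v} [Field F] [Fintype F] {n : ℕ} (hF : Fintype.card F = 3 ^ (2 * n + 1))
include hF

theorem three_eq_zero : (3 : F) = 0 := by
  have h := FiniteField.cast_card_eq_zero F
  rw [hF, Nat.cast_pow] at h
  exact_mod_cast eq_zero_of_pow_eq_zero h

theorem four_le_card (hn : 1 ≤ n) : 4 ≤ Fintype.card F := by
  rw [hF]
  calc 4 ≤ 3 ^ 2 := by norm_num
    _ ≤ 3 ^ (2 * n + 1) := Nat.pow_le_pow_right (by norm_num) (by omega)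

theorem commutator_eq_top (hn : 1 ≤ n) :
    commutator (Matrix.ProjectiveSpecialLinearGroup (Fin 2) F) = ⊤ := by
  haveI : Group.IsPerfect (Matrix.SpecialLinearGroup (Fin 2) F) :=
    ⟨Linear.commutator_SL_eq_top le_rfl fun _ => by
      rw [Nat.card_eq_fintype_card]; exact four_le_card hF hn⟩
  have h : Group.IsPerfect (Matrix.ProjectiveSpecialLinearGroup (Fin 2) F) := inferInstance
  exact h.commutator_eq_top

/-- There is a square `s` with `s + 1` a square and `s` none of `0, 1, -1`. -/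
theorem exists_squares (hn : 1 ≤ n) :
    ∃ w z : F, w ≠ 0 ∧ z ≠ 0 ∧ z * z = w * w + 1 ∧ w * w ≠ 1 := by
  classical
  have h3 := three_eq_zero hF
  obtain ⟨k, hk⟩ : ∃ k : F, k ∉ ({0, 1, -1} : Finset F) := by
    by_contra h
    push Not at h
    have h1 : (Finset.univ : Finset F).card ≤ ({0, 1, -1} : Finset F).card :=
      Finset.card_le_card fun x _ => h x
    have h2 : ({0, 1, -1} : Finset F).card ≤ 3 := Finset.card_le_three
    have h4 := four_le_card hF hn
    rw [Finset.card_univ] at h1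
    omega
  simp only [Finset.mem_insert, Finset.mem_singleton, not_or] at hk
  obtain ⟨hk0, hk1, hk2⟩ := hk
  have hneg := not_isSquare_neg_one hF
  -- `2 = -1`, so the halves are negatives
  refine ⟨-(k - k⁻¹), -(k + k⁻¹), ?_, ?_, ?_, ?_⟩
  · intro h
    have : k * k = 1 := by
      field_simp at h
      linear_combination -h
    rcases mul_self_eq_one_iff.1 this with h | h
    · exact hk1 h
    · exact hk2 h
  · intro h
    refine hneg ⟨k, ?_⟩
    field_simp at h
    linear_combination h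
  · field_simp
    linear_combination (k ^ 2) * h3
  · intro h
    rcases mul_self_eq_one_iff.1 h with h | h
    · refine hneg ⟨k - 1, ?_⟩
      field_simp at h
      linear_combination h + k * h3 + (-1) * h3
    · refine hneg ⟨k + 1, ?_⟩
      field_simp at h
      linear_combination h + (-1) * h3 + (-k) * h3

end Field

variable {Q : Type u} [Group Q] [Finite Q]

/-- An element whose conjugation moves elements of `K` only centrally fixes `[K, K]`. -/
theorem commutator_le_centralizer_of_central {K : Subgroup Q} {a : Q}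
    (h : ∀ b ∈ K, ⁅a, b⁆ ∈ Subgroup.center Q) : ⁅K, K⁆ ≤ Subgroup.centralizer {a} := by
  rw [Subgroup.commutator_le]
  intro b hb c hc
  rw [Subgroup.mem_centralizer_singleton_iff]
  have key : MulAut.conj a ⁅b, c⁆ = ⁅b, c⁆ := by
    rw [map_commutatorElement]
    have e : ∀ x : Q, MulAut.conj a x = ⁅a, x⁆ * x := fun x => by
      rw [MulAut.conj_apply, commutatorElement_def]; group
    rw [e b, e c]
    set z₁ := ⁅a, b⁆
    set z₂ := ⁅a, c⁆
    have h1 := Subgroup.mem_center_iff.1 (h b hb)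
    have h2 := Subgroup.mem_center_iff.1 (h c hc)
    have f1 : ∀ x : Q, z₁⁻¹ * x = x * z₁⁻¹ := fun x =>
      ((Commute.inv_right (show Commute x z₁ from h1 x)).eq).symm
    have f2 : ∀ x : Q, z₂⁻¹ * x = x * z₂⁻¹ := fun x =>
      ((Commute.inv_right (show Commute x z₂ from h2 x)).eq).symm
    rw [commutatorElement_def, commutatorElement_def, mul_inv_rev, mul_inv_rev]
    calc z₁ * b * (z₂ * c) * (b⁻¹ * z₁⁻¹) * (c⁻¹ * z₂⁻¹)
        = z₁ * (b * z₂) * c * b⁻¹ * (z₁⁻¹ * c⁻¹) * z₂⁻¹ := by group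
      _ = z₁ * (z₂ * b) * c * b⁻¹ * (c⁻¹ * z₁⁻¹) * z₂⁻¹ := by rw [h2 b, f1 c⁻¹]
      _ = (z₁ * z₂) * (b * c * b⁻¹ * c⁻¹) * (z₁⁻¹ * z₂⁻¹) := by group
      _ = (z₁ * z₂) * ((b * c * b⁻¹ * c⁻¹) * (z₁⁻¹ * z₂⁻¹)) := by group
      _ = (z₁ * z₂) * ((z₁⁻¹ * z₂⁻¹) * (b * c * b⁻¹ * c⁻¹)) := by
          rw [← mul_assoc (b * c * b⁻¹ * c⁻¹), ← f1, mul_assoc (z₁⁻¹), ← f2, ← mul_assoc (z₁⁻¹)]
      _ = b * c * b⁻¹ * c⁻¹ := by
          rw [← f2 z₁⁻¹]; group
  rw [MulAut.conj_apply] at key
  exact (mul_inv_eq_iff_eq_mul.1 key).symm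

variable {ι : Type w} [Fintype ι] [DecidableEq ι] {F : ι → Type v} [∀ i, Field (F i)]
  [∀ i, Fintype (F i)] {n : ι → ℕ} (hF : ∀ i, Fintype.card (F i) = 3 ^ (2 * n i + 1))
  (hn : ∀ i, 1 ≤ n i)
  (e : Q →* ((i : ι) → Matrix.ProjectiveSpecialLinearGroup (Fin 2) (F i)))
  (he : Function.Surjective e) (hker : e.ker ≤ Subgroup.center Q)

include hker in
theorem commutator_eq_of_eq {a a' b b' : Q} (ha : e a = e a') (hb : e b = e b') :
    ⁅a, b⁆ = ⁅a', b'⁆ := by
  obtain ⟨z, hz, rfl⟩ : ∃ z ∈ Subgroup.center Q, a = a' * z :=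
    ⟨a'⁻¹ * a, hker (by simp [MonoidHom.mem_ker, ha]), by simp⟩
  obtain ⟨y, hy, rfl⟩ : ∃ y ∈ Subgroup.center Q, b = b' * y :=
    ⟨b'⁻¹ * b, hker (by simp [MonoidHom.mem_ker, hb]), by simp⟩
  have h1 := Subgroup.mem_center_iff.1 hz
  have h2 := Subgroup.mem_center_iff.1 hy
  rw [commutatorElement_def, commutatorElement_def, mul_inv_rev, mul_inv_rev]
  calc a' * z * (b' * y) * (z⁻¹ * a'⁻¹) * (y⁻¹ * b'⁻¹)
      = a' * (z * (b' * y)) * z⁻¹ * a'⁻¹ * y⁻¹ * b'⁻¹ := by group
    _ = a' * b' * y * a'⁻¹ * y⁻¹ * b'⁻¹ := by rw [← h1 (b' * y)]; group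
    _ = a' * b' * (y * a'⁻¹) * y⁻¹ * b'⁻¹ := by group
    _ = a' * b' * a'⁻¹ * b'⁻¹ := by rw [← h2 a'⁻¹]; group

include hF hn he hker in
/-- The unipotent elements of one factor commute. -/
theorem commute_same (i : ι) {a b : Q} {x y : F i}
    (ha : e a = Pi.mulSingle i (QuotientGroup.mk (up x)))
    (hb : e b = Pi.mulSingle i (QuotientGroup.mk (up y))) : Commute a b := by
  let U : Multiplicative (F i) →* ((j : ι) → Matrix.ProjectiveSpecialLinearGroup (Fin 2) (F j)) :=
    (MonoidHom.mulSingle _ i).comp upHom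
  choose s hs using fun x : F i => he (U (Multiplicative.ofAdd x))
  have hU : ∀ x : F i, e (s x) = Pi.mulSingle i (QuotientGroup.mk (up x)) := hs
  have hadd : ∀ x y : F i, e (s (x + y)) = e (s x * s y) := fun x y => by
    rw [map_mul, hs, hs, hs, ofAdd_add, map_mul]
  set β : F i → F i → Q := fun x y => ⁅s x, s y⁆ with hβ
  have hz : ∀ x y, β x y ∈ Subgroup.center Q := fun x y => by
    refine hker ?_
    rw [MonoidHom.mem_ker, map_commutatorElement, hs, hs, commutatorElement_eq_one_iff_commute]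
    exact (Commute.all (Multiplicative.ofAdd x) (Multiplicative.ofAdd y)).map U
  have hl : ∀ x x' y, β (x + x') y = β x y * β x' y := fun x x' y => by
    show ⁅s (x + x'), s y⁆ = ⁅s x, s y⁆ * ⁅s x', s y⁆
    rw [commutator_eq_of_eq e hker (hadd x x') rfl, show ⁅s x * s x', s y⁆ =
      s x * ⁅s x', s y⁆ * (s x)⁻¹ * ⁅s x, s y⁆ by simp only [commutatorElement_def]; group]
    have h := Subgroup.mem_center_iff.1 (hz x' y) (s x)
    change s x * ⁅s x', s y⁆ = _ at h
    rw [h, mul_inv_cancel_right]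
    exact (Subgroup.mem_center_iff.1 (hz x y) _)
  have hsymm : ∀ x y, β y x = (β x y)⁻¹ := fun x y => (commutatorElement_inv _ _).symm
  have hr : ∀ x y y', β x (y + y') = β x y * β x y' := fun x y y' => by
    rw [hsymm (y + y') x, hl, mul_inv_rev, ← hsymm, ← hsymm]
    exact (Subgroup.mem_center_iff.1 (hz x y') _).symm
  have htor : ∀ c : F i, c ≠ 0 → ∀ x y, β (c * c * x) (c * c * y) = β x y := fun c hc x y => by
    obtain ⟨t, ht⟩ := he (Pi.mulSingle i (QuotientGroup.mk (tor (Units.mk0 c hc))))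
    have hconj : ∀ x : F i, e (s (c * c * x)) = e (MulAut.conj t (s x)) := fun x => by
      rw [MulAut.conj_apply, map_mul, map_mul, map_inv, hU, hU, ht, ← Pi.mulSingle_inv,
        ← Pi.mulSingle_mul, ← Pi.mulSingle_mul, tor_conj]
      rfl
    show ⁅s _, s _⁆ = ⁅s x, s y⁆
    rw [commutator_eq_of_eq e hker (hconj x) (hconj y), ← map_commutatorElement,
      MulAut.conj_apply, Subgroup.mem_center_iff.1 (hz x y) t, mul_inv_cancel_right]
  have hsq : ∀ c : F i, c ≠ 0 → ∀ x y, β (c * c * x) y = β x ((c * c)⁻¹ * y) := fun c hc x y => by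
    conv_lhs => rw [show y = c * c * ((c * c)⁻¹ * y) by field_simp]
    exact htor c hc _ _
  obtain ⟨w, z, hw, hz0, hwz, hw1⟩ := exists_squares (hF i) (hn i)
  have h3 := three_eq_zero (hF i)
  have hzero : ∀ x y : F i, β x y = 1 := by
    intro x y
    -- the coefficient
    set d : F i := (w * w)⁻¹ + 1 - (z * z)⁻¹ with hd
    have hd0 : d ≠ 0 := by
      intro h0
      refine hw1 ?_
      have : ((w * w) - 1) * ((w * w) - 1) = 0 := by
        rw [hd] at h0
        field_simp at h0
        linear_combination h0 + (w * w) * (-h3) + (-(1 + w * w)) * hwz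
      exact sub_eq_zero.1 (mul_self_eq_zero.1 this)
    have key : ∀ y, β x (d * y) = 1 := by
      intro y
      have h1 : β (z * z * x) y = β (w * w * x) y * β x y := by
        rw [show z * z * x = w * w * x + x by rw [hwz]; ring, hl]
      rw [hsq z hz0, hsq w hw, ← hr] at h1
      have h2 : β x ((w * w)⁻¹ * y + y) = β x (d * y) * β x ((z * z)⁻¹ * y) := by
        rw [← hr]; congr 1; rw [hd]; ring
      rw [← h1] at h2
      exact mul_eq_right.1 h2.symm
    have := key (d⁻¹ * y)
    rwa [← mul_assoc, mul_inv_cancel₀ hd0, one_mul] at this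
  rw [← commutatorElement_eq_one_iff_commute, commutator_eq_of_eq e hker (ha.trans (hU x).symm)
    (hb.trans (hU y).symm)]
  exact hzero x y

include hF hn he hker in
/-- Elements over different factors commute. -/
theorem commute_diff {i j : ι} (hij : i ≠ j) {a b : Q}
    {x : Matrix.ProjectiveSpecialLinearGroup (Fin 2) (F i)}
    {y : Matrix.ProjectiveSpecialLinearGroup (Fin 2) (F j)}
    (ha : e a = Pi.mulSingle i x) (hb : e b = Pi.mulSingle j y) : Commute a b := by
  let M : Subgroup ((k : ι) → Matrix.ProjectiveSpecialLinearGroup (Fin 2) (F k)) :=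
    (MonoidHom.mulSingle (fun k => Matrix.ProjectiveSpecialLinearGroup (Fin 2) (F k)) j).range
  let K : Subgroup Q := M.comap e
  have hc : ∀ b ∈ K, ⁅a, b⁆ ∈ Subgroup.center Q := by
    rintro b ⟨y, hy⟩
    refine hker ?_
    rw [MonoidHom.mem_ker, map_commutatorElement, ha, ← hy, commutatorElement_eq_one_iff_commute]
    exact Pi.mulSingle_commute (f := fun k => Matrix.ProjectiveSpecialLinearGroup (Fin 2) (F k))
      hij x y
  have h1 : ⁅K, K⁆ ≤ Subgroup.centralizer {a} := commutator_le_centralizer_of_central hc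
  have h2 : M ≤ (⁅K, K⁆).map e := by
    rw [Subgroup.map_commutator, Subgroup.map_comap_eq_self_of_surjective he]
    show (MonoidHom.mulSingle (fun k => Matrix.ProjectiveSpecialLinearGroup (Fin 2) (F k)) j).range ≤ _
    simp only [M, MonoidHom.range_eq_map, ← Subgroup.map_commutator]
    refine Subgroup.map_mono ?_
    rw [← commutator_def, commutator_eq_top (hF j) (hn j)]
  obtain ⟨b', hb', heb⟩ := h2 (show e b ∈ M from ⟨y, hb.symm⟩)
  have h3 := Subgroup.mem_centralizer_singleton_iff.1 (h1 hb')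
  rw [← commutatorElement_eq_one_iff_commute, commutator_eq_of_eq e hker rfl heb.symm,
    commutatorElement_eq_one_iff_commute]
  exact h3.symm

include hF hn he hker in
/-- The Sylow `3`-subgroups are commutative. -/
theorem isMulCommutative_sylow (T : Sylow 3 Q) : IsMulCommutative ↥(T : Subgroup Q) := by
  haveI : Fact (Nat.Prime 3) := ⟨Nat.prime_three⟩
  -- move the image into the unipotent subgroups
  let L := fun i => Matrix.ProjectiveSpecialLinearGroup (Fin 2) (F i)
  have hpi : ∀ i, ∃ g : L i, ∀ a ∈ (T : Subgroup Q), ∃ x : F i,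
      g * e a i * g⁻¹ = QuotientGroup.mk (up x) := by
    intro i
    have hp : IsPGroup 3 ↥((T : Subgroup Q).map ((Pi.evalMonoidHom L i).comp e)) := T.2.map _
    obtain ⟨P, hP⟩ := hp.exists_le_sylow
    obtain ⟨g, hg⟩ := MulAction.exists_smul_eq (L i) P (upSylow (hF i))
    refine ⟨g, fun a ha => ?_⟩
    have : g * e a i * g⁻¹ ∈ ((upSylow (hF i) : Sylow 3 (L i)) : Subgroup (L i)) := by
      rw [← hg]
      exact Subgroup.mem_pointwise_smul_iff_inv_smul_mem.2
        (by simpa [mul_assoc] using hP ⟨a, ha, rfl⟩)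
    rw [coe_upSylow] at this
    obtain ⟨x, hx⟩ := this
    exact ⟨x.toAdd, hx.symm⟩
  choose g hg using hpi
  obtain ⟨g0, hg0⟩ := he g
  let S : Set Q := {a | e a = 1 ∨ ∃ (i : ι) (x : F i), e a = Pi.mulSingle i (QuotientGroup.mk (up x))}
  have hS : ∀ a ∈ S, ∀ b ∈ S, Commute a b := by
    rintro a (ha | ⟨i, x, ha⟩) b hb
    · exact ((Subgroup.mem_center_iff.1 (hker ha)) b).symm
    rcases hb with hb | ⟨j, y, hb⟩
    · exact Subgroup.mem_center_iff.1 (hker hb) a
    rcases eq_or_ne i j with rfl | hij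
    · exact commute_same hF hn e he hker i ha hb
    · exact commute_diff hF hn e he hker hij ha hb
  have hcl : ∀ a ∈ Subgroup.closure S, ∀ b ∈ Subgroup.closure S, Commute a b := by
    have h1 : Subgroup.closure S ≤ Subgroup.centralizer S := by
      rw [Subgroup.closure_le]
      exact fun a ha => Subgroup.mem_centralizer_iff.2 fun b hb => hS b hb a ha
    intro a ha b hb
    have h2 : Subgroup.closure S ≤ Subgroup.centralizer {a} := by
      rw [Subgroup.closure_le]
      exact fun c hc => Subgroup.mem_centralizer_singleton_iff.2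
        ((Subgroup.mem_centralizer_iff.1 (h1 ha)) c hc)
    exact (Subgroup.mem_centralizer_singleton_iff.1 (h2 hb)).symm
  have hmem : ∀ a ∈ (T : Subgroup Q), g0 * a * g0⁻¹ ∈ Subgroup.closure S := by
    intro a ha
    choose x hx using fun i => hg i a ha
    have h1 : e (g0 * a * g0⁻¹) ∈ (Subgroup.closure S).map e := by
      refine Subgroup.pi_mem_of_mulSingle_mem _ fun i => ?_
      obtain ⟨b, hb⟩ := he (Pi.mulSingle i (QuotientGroup.mk (up (x i))))
      refine ⟨b, Subgroup.subset_closure (Or.inr ⟨i, x i, hb⟩), hb.trans ?_⟩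
      rw [map_mul, map_mul, map_inv, hg0, Pi.mul_apply, Pi.mul_apply, Pi.inv_apply, hx]
    obtain ⟨c, hc, hce⟩ := h1
    have hk : c⁻¹ * (g0 * a * g0⁻¹) ∈ Subgroup.closure S :=
      Subgroup.subset_closure (Or.inl (by rw [map_mul, map_inv, hce, inv_mul_cancel]))
    simpa using mul_mem hc hk
  refine ⟨⟨fun a b => Subtype.ext ?_⟩⟩
  have := hcl _ (hmem a a.2) _ (hmem b b.2)
  exact (MulAut.conj g0).injective (by simpa [MulAut.conj_apply, map_mul] using this.eq)

include hF hn he hker in
/-- A perfect central extension by a `3`-group is trivial. -/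
theorem ker_eq_bot (hperf : commutator Q = ⊤) (h3 : IsPGroup 3 ↥e.ker) : e.ker = ⊥ := by
  classical
  haveI : Fact (Nat.Prime 3) := ⟨Nat.prime_three⟩
  obtain ⟨T, hT⟩ := h3.exists_le_sylow
  haveI := isMulCommutative_sylow hF hn e he hker T
  rw [Subgroup.eq_bot_iff_forall]
  intro z hz
  haveI : (T : Subgroup Q).FiniteIndex := inferInstance
  let τ : Q →* ↥(T : Subgroup Q) := MonoidHom.transfer (MonoidHom.id _)
  have h1 : τ z = 1 := by
    have : commutator Q ≤ τ.ker := Abelianization.commutator_subset_ker τ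
    exact this (hperf ▸ Subgroup.mem_top z)
  have hc := Subgroup.mem_center_iff.1 (hker hz)
  have h2 := MonoidHom.transfer_eq_pow (MonoidHom.id ↥(T : Subgroup Q)) z fun k g₀ hk => by
    rw [((Commute.pow_right (show Commute g₀⁻¹ z from hc g₀⁻¹) k)).eq, inv_mul_cancel_right]
  have h3' : z ^ (T : Subgroup Q).index = 1 := by
    have := congrArg Subtype.val (h2.symm.trans h1)
    simpa using this
  obtain ⟨k, hk⟩ := IsPGroup.iff_orderOf.1 h3 ⟨z, hz⟩
  rw [Subgroup.orderOf_mk] at hk
  have hd := orderOf_dvd_of_pow_eq_one h3'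
  rw [hk] at hd
  by_contra hz1
  have hk0 : k ≠ 0 := fun h => hz1 (orderOf_eq_one_iff.1 (by rw [hk, h, pow_zero]))
  exact T.not_dvd_index ((dvd_pow_self 3 hk0).trans hd)

end Cfsg.Agent.Lib.NoRealThree57
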