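import Cfsg.Agent.Lib.NoRealThree57.Central
import Cfsg.Agent.Lib.Cores.MinNormal
import Cfsg.Agent.Lib.SThreeFree21.Row4031
import Cfsg.Agent.Lib.Goldschmidt92.Others
import Mathlib.GroupTheory.SchurZassenhaus
import Mathlib.GroupTheory.NoncommCoprod

/-!
# Groups generated by two-elements without real elements of order three

Such a group with trivial `3'`-core is a direct product of groups `PSL₂(3 ^ (2 f + 1))`, given the
simple groups without a section `Sym(3)`.
-/

set_option autoImplicit false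
set_option linter.unusedSectionVars false
set_option linter.style.haveILetI false

namespace Cfsg.Agent.Lib.NoRealThree57

open Cfsg Cfsg.Agent.Lib.LAEven54.Inverted
open scoped Pointwise

universe u v

/-- The factor. -/
abbrev L (f : ℕ) : Type := Matrix.ProjectiveSpecialLinearGroup (Fin 2) (GaloisField 3 (2 * f + 1))

/-- A finite product of the factors. -/
def IsProd (Q : Type u) [Group Q] : Prop :=
  ∃ (k : ℕ) (f : Fin k → ℕ), (∀ i, 1 ≤ f i) ∧
    Nonempty (Q ≃* ((i : Fin k) → L (f i)))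

/-- The first factor split off. -/
def prodPi {k : ℕ} (G : Fin (k + 1) → Type v) [∀ i, Group (G i)] :
    (G 0 × ((i : Fin k) → G i.succ)) ≃* ((i : Fin (k + 1)) → G i) :=
  { Fin.consEquiv G with
    map_mul' := fun a b => by
      funext i
      refine Fin.cases ?_ ?_ i <;> intros <;> simp [Fin.consEquiv] }

theorem card_galois (f : ℕ) [Fintype (GaloisField 3 (2 * f + 1))] :
    Fintype.card (GaloisField 3 (2 * f + 1)) = 3 ^ (2 * f + 1) := by
  rw [← Nat.card_eq_fintype_card]
  exact GaloisField.card 3 _ (by omega)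

section

variable {Q : Type u} [Group Q] [Finite Q]

theorem isProd_of_subsingleton [Subsingleton Q] : IsProd Q :=
  ⟨0, Fin.elim0, fun i => i.elim0, ⟨{
    toFun := fun _ => 1
    invFun := fun _ => 1
    left_inv := fun _ => Subsingleton.elim _ _
    right_inv := fun _ => Subsingleton.elim _ _
    map_mul' := fun _ _ => (mul_one _).symm }⟩⟩

/-- A normal three-subgroup is central. -/
theorem le_center (hNR : NR Q) (hgen : Gen2 Q) {N : Subgroup Q} [N.Normal] (hN : IsPGroup 3 ↥N) :
    N ≤ Subgroup.center Q := by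
  have h : (⊤ : Subgroup Q) ≤ Subgroup.centralizer (N : Set Q) := by
    rw [← (show Subgroup.closure {g : Q | ∃ k : ℕ, orderOf g = 2 ^ k} = ⊤ from hgen),
      Subgroup.closure_le]
    exact fun t ht => hNR.mem_centralizer ht hN (by rw [Subgroup.normalizer_eq_top]; trivial)
  exact fun n hn => Subgroup.mem_center_iff.2 fun q =>
    (Subgroup.mem_centralizer_iff.1 (h (Subgroup.mem_top q)) n hn).symm

/-- The quotient by a central three-subgroup keeps a trivial `3'`-core. -/
theorem pPrimeCore_quotient_eq_bot (hO : pPrimeCore 3 Q = ⊥) {N : Subgroup Q} [N.Normal]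
    (hN : IsPGroup 3 ↥N) (hc : N ≤ Subgroup.center Q) : pPrimeCore 3 (Q ⧸ N) = ⊥ := by
  haveI : Fact (Nat.Prime 3) := ⟨Nat.prime_three⟩
  set C := pPrimeCore 3 (Q ⧸ N) with hC
  set M := C.comap (QuotientGroup.mk' N) with hM
  have hle : N ≤ M := fun x hx => by
    rw [hM, Subgroup.mem_comap, QuotientGroup.mk'_apply, (QuotientGroup.eq_one_iff x).2 hx]
    exact one_mem _
  set N' := N.subgroupOf M with hN'
  have hidx : N'.index = Nat.card C := by
    have h3 := Subgroup.relIndex_comap (⊥ : Subgroup (Q ⧸ N)) (QuotientGroup.mk' N) M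
    rw [MonoidHom.comap_bot, QuotientGroup.ker_mk', hM,
      Subgroup.map_comap_eq_self_of_surjective (QuotientGroup.mk'_surjective _),
      Subgroup.relIndex_bot_left, ← hM] at h3
    exact h3
  have hco : (Nat.card N').Coprime N'.index := by
    rw [hidx, Nat.card_congr (Subgroup.subgroupOfEquivOfLe hle).toEquiv]
    obtain ⟨j, hj⟩ := IsPGroup.iff_card.1 hN
    rw [hj]
    exact (Nat.Coprime.pow_left _ (Cores.pPrimeCore_coprime 3).symm)
  obtain ⟨H, hH⟩ := Subgroup.exists_right_complement'_of_coprime hco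
  have hHn : H.Normal := by
    refine ⟨fun h hh m => ?_⟩
    obtain ⟨a, ha, b, hb, rfl⟩ : ∃ a ∈ N', ∃ b ∈ H, a * b = m := by
      have : m ∈ N' ⊔ H := by rw [hH.sup_eq_top]; trivial
      rwa [Subgroup.mem_sup_of_normal_left] at this
    have hac : ∀ y : ↥M, y * a = a * y := fun y =>
      Subtype.ext (Subgroup.mem_center_iff.1 (hc ha) y)
    rw [mul_inv_rev, show a * b * h * (b⁻¹ * a⁻¹) = a * (b * h * b⁻¹) * a⁻¹ by group,
      ← hac (b * h * b⁻¹), mul_inv_cancel_right]
    exact mul_mem (mul_mem hb hh) (inv_mem hb)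
  have hHc : Nat.card H = Nat.card C := by
    rw [← hidx]; exact (hH.symm.index_eq_card).symm
  have hbot : pPrimeCore 3 ↥M = ⊥ := pPrimeCore_normal_eq_bot hO M
  haveI := hHn
  have : H = ⊥ := le_bot_iff.1 (hbot ▸ Cores.le_pPrimeCore (N := H)
    (by rw [hHc]; exact Cores.pPrimeCore_coprime 3))
  exact Subgroup.eq_bot_of_card_eq _ (by rw [← hHc, this, Subgroup.card_bot])

/-- The reduction for a normal three-subgroup. -/
theorem false_of_isPGroup (hgen : Gen2 Q) {N : Subgroup Q} [N.Normal] (hN1 : N ≠ ⊥)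
    (hN : IsPGroup 3 ↥N) (hc : N ≤ Subgroup.center Q) (hP : IsProd (Q ⧸ N)) : False := by
  classical
  obtain ⟨k, f, hf, ⟨φ⟩⟩ := hP
  haveI : ∀ i, Fintype (GaloisField 3 (2 * f i + 1)) := fun i => Fintype.ofFinite _
  let e : Q →* ((i : Fin k) → L (f i)) := φ.toMonoidHom.comp (QuotientGroup.mk' N)
  have he : Function.Surjective e := φ.surjective.comp (QuotientGroup.mk'_surjective N)
  have hker : e.ker = N := by
    ext x
    simp [e, MonoidHom.mem_ker]
  have hperf : commutator Q = ⊤ := by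
    have h1 : (⊤ : Subgroup ((i : Fin k) → L (f i))) ≤ (commutator Q).map e := by
      intro x _
      refine Subgroup.pi_mem_of_mulSingle_mem _ fun i => ?_
      have h2 : (commutator (L (f i))).map (MonoidHom.mulSingle (fun j => L (f j)) i) ≤
          (commutator Q).map e := by
        rw [commutator_def, commutator_def, Subgroup.map_commutator, Subgroup.map_commutator,
          Subgroup.map_top_of_surjective e he]
        exact Subgroup.commutator_mono le_top le_top
      refine h2 ⟨x i, ?_, rfl⟩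
      rw [commutator_eq_top (card_galois (f i)) (hf i)]
      trivial
    rw [eq_top_iff, ← (show Subgroup.closure {g : Q | ∃ k : ℕ, orderOf g = 2 ^ k} = ⊤ from hgen),
      Subgroup.closure_le]
    rintro t ⟨j, hj⟩
    obtain ⟨c, hcQ, hce⟩ := h1 (Subgroup.mem_top (e t))
    have hn : c⁻¹ * t ∈ N := by rw [← hker]; simp [MonoidHom.mem_ker, hce]
    obtain ⟨i, hi⟩ := IsPGroup.iff_orderOf.1 hN ⟨_, hn⟩
    rw [Subgroup.orderOf_mk] at hi
    let q := QuotientGroup.mk' (commutator Q)
    have hq : q (c⁻¹ * t) = q t := by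
      rw [map_mul, show q c⁻¹ = 1 from (QuotientGroup.eq_one_iff _).2 (inv_mem hcQ), one_mul]
    have h4 : orderOf (q t) ∣ 2 ^ j := hj ▸ orderOf_map_dvd q t
    have h5 : orderOf (q t) ∣ 3 ^ i := hi ▸ hq ▸ orderOf_map_dvd q (c⁻¹ * t)
    have h6 : orderOf (q t) = 1 := Nat.eq_one_of_dvd_coprimes
      (Nat.Coprime.pow j i (by norm_num)) h4 h5
    exact (QuotientGroup.eq_one_iff _).1 (orderOf_eq_one_iff.1 h6)
  have h0 := ker_eq_bot (fun i => card_galois (f i)) hf e he (hker ▸ hc) hperf (hker ▸ hN)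
  exact hN1 (hker ▸ h0)

/-- The group is the join of a normal subgroup and the centralizer of its Sylow `3`-subgroup. -/
theorem sup_centralizer_sylow (hNR : NR Q) (hgen : Gen2 Q) {N : Subgroup Q} [N.Normal]
    (P : Sylow 3 ↥N) :
    N ⊔ Subgroup.centralizer (((P : Subgroup ↥N).map N.subtype : Subgroup Q) : Set Q) = ⊤ := by
  haveI : Fact (Nat.Prime 3) := ⟨Nat.prime_three⟩
  rw [eq_top_iff, ← (show Subgroup.closure {g : Q | ∃ k : ℕ, orderOf g = 2 ^ k} = ⊤ from hgen),
    Subgroup.closure_le]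
  rintro t ⟨j, hj⟩
  have hmem : t ∈ (⊤ : Subgroup Q) := Subgroup.mem_top _
  rw [← Sylow.normalizer_sup_eq_top P, Subgroup.mem_sup_of_normal_right] at hmem
  obtain ⟨c, hc, n, hn, rfl⟩ := hmem
  obtain ⟨m, hm, hm2⟩ := exists_two_part c
  have hcC := hNR.mem_centralizer hm2 (P.2.map _) (pow_mem hc m)
  have h1 : (c ^ m)⁻¹ * (c * n) ^ m ∈ N := by
    rw [← QuotientGroup.eq_one_iff, QuotientGroup.mk_mul, QuotientGroup.mk_inv,
      QuotientGroup.mk_pow, QuotientGroup.mk_pow, QuotientGroup.mk_mul,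
      (QuotientGroup.eq_one_iff n).2 hn, mul_one, inv_mul_cancel]
  have hS : (c * n) ^ m ∈ N ⊔ Subgroup.centralizer
      (((P : Subgroup ↥N).map N.subtype : Subgroup Q) : Set Q) := by
    have := mul_mem (Subgroup.mem_sup_right (S := N) hcC)
      (Subgroup.mem_sup_left (T := Subgroup.centralizer
        (((P : Subgroup ↥N).map N.subtype : Subgroup Q) : Set Q)) h1)
    rwa [mul_inv_cancel_left] at this
  obtain ⟨a, ha⟩ := exists_pow_eq_self_of_coprime (n := m) (x := c * n) (by
    rw [hj]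
    exact Nat.Coprime.pow_right _ (Nat.coprime_two_right.2 hm))
  show c * n ∈ _
  rw [← ha]
  exact pow_mem hS a

/-- A minimal normal subgroup which is not a three-group is simple and nonabelian. -/
theorem simple_of_minimal (hNR : NR Q) (hgen : Gen2 Q) (hO : pPrimeCore 3 Q = ⊥) {N : Subgroup Q}
    [N.Normal] (hN1 : N ≠ ⊥) (hmin : ∀ M : Subgroup Q, M.Normal → M ≤ N → M = ⊥ ∨ M = N)
    (hN : ¬ IsPGroup 3 ↥N) :
    IsSimpleGroup ↥N ∧ ∃ a b : ↥N, a * b ≠ b * a := by
  haveI : Fact (Nat.Prime 3) := ⟨Nat.prime_three⟩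
  haveI : Nontrivial ↥N := N.nontrivial_iff_ne_bot.2 hN1
  obtain ⟨T, hT, hT1, hTmin⟩ := Cores.MinNormal.exists_minimal (G := ↥N)
  have hON : pPrimeCore 3 ↥N = ⊥ := pPrimeCore_normal_eq_bot hO N
  obtain ⟨P⟩ : Nonempty (Sylow 3 ↥N) := inferInstance
  -- an element of order three of `T` in `P`
  obtain ⟨y, hy1, hyT, hyP⟩ : ∃ y : ↥N, y ≠ 1 ∧ y ∈ T ∧ y ∈ (P : Subgroup ↥N) := by
    obtain ⟨y, hy⟩ := exists_prime_orderOf_dvd_card' (G := ↥T) 3
      (haveI := hT; dvd_card_of_normal hON hT1)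
    have hyp : IsPGroup 3 (Subgroup.zpowers (y : ↥N)) := IsPGroup.of_card (n := 1)
      (by rw [Nat.card_zpowers, Subgroup.orderOf_coe, hy, pow_one])
    obtain ⟨R, hR⟩ := hyp.exists_le_sylow
    obtain ⟨g, hg⟩ := MulAction.exists_smul_eq ↥N R P
    refine ⟨g * y * g⁻¹, fun h => ?_, hT.conj_mem _ y.2 g, ?_⟩
    · rw [conj_eq_one_iff] at h
      rw [← Subgroup.orderOf_coe, h, orderOf_one] at hy
      omega
    · rw [← hg]
      exact Subgroup.mem_pointwise_smul_iff_inv_smul_mem.2
        (by simpa [mul_assoc] using hR (Subgroup.mem_zpowers (y : ↥N)))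
  set T' := T.map N.subtype with hT'
  have hfix : ∀ c ∈ Subgroup.centralizer (((P : Subgroup ↥N).map N.subtype : Subgroup Q) : Set Q),
      T.map (MulAut.conjNormal c : MulAut ↥N).toMonoidHom = T := by
    intro c hc
    set α : MulAut ↥N := MulAut.conjNormal c
    haveI : (T.map α.toMonoidHom).Normal := hT.map _ α.surjective
    have hy : α y = y := Subtype.ext (by
      rw [MulAut.conjNormal_apply, ← (Subgroup.mem_centralizer_iff.1 hc) y ⟨y, hyP, rfl⟩,
        mul_inv_cancel_right])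
    rcases hTmin (T.map α.toMonoidHom ⊓ T) inferInstance inf_le_right with h | h
    · exact absurd (Subgroup.mem_bot.1 (h ▸ ⟨⟨y, hyT, hy⟩, hyT⟩)) hy1
    · refine (Subgroup.eq_of_le_of_card_ge (inf_eq_right.1 h) ?_).symm
      exact (Nat.card_congr (Subgroup.equivMapOfInjective T α.toMonoidHom α.injective).toEquiv).ge
  have hTn : T'.Normal := by
    rw [← Subgroup.normalizer_eq_top_iff, eq_top_iff, ← sup_centralizer_sylow hNR hgen P, sup_le_iff]
    constructor
    · intro n hn
      rw [Subgroup.mem_normalizer_iff]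
      intro x
      constructor
      · rintro ⟨z, hz, rfl⟩
        exact ⟨⟨n, hn⟩ * z * ⟨n, hn⟩⁻¹, hT.conj_mem z hz _, rfl⟩
      · rintro ⟨z, hz, he⟩
        refine ⟨⟨n, hn⟩⁻¹ * z * ⟨n, hn⟩, ?_, ?_⟩
        · simpa using hT.conj_mem z hz (⟨n, hn⟩⁻¹ : ↥N)
        · show n⁻¹ * (z : Q) * n = x
          rw [show ((z : ↥N) : Q) = n * x * n⁻¹ from he]; group
    · intro c hc
      rw [Subgroup.mem_normalizer_iff]
      intro x
      constructor
      · rintro ⟨z, hz, rfl⟩
        exact ⟨(MulAut.conjNormal c : MulAut ↥N) z, (hfix c hc).le ⟨z, hz, rfl⟩,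
          MulAut.conjNormal_apply c z⟩
      · rintro ⟨z, hz, he⟩
        obtain ⟨z', hz', hzz⟩ := (hfix c hc).ge hz
        refine ⟨z', hz', ?_⟩
        have h1 : c * (z' : Q) * c⁻¹ = c * x * c⁻¹ := by
          rw [← MulAut.conjNormal_apply c z', ← he]
          exact congrArg Subtype.val hzz
        exact mul_left_cancel (mul_right_cancel h1)
  have hTtop : T = ⊤ := by
    rcases hmin T' hTn (Subgroup.map_subtype_le T) with h | h
    · exact absurd ((Subgroup.map_eq_bot_iff_of_injective _ N.subtype_injective).1 h) hT1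
    · exact Subgroup.map_injective N.subtype_injective (h.trans (by
        rw [← MonoidHom.range_eq_map, Subgroup.range_subtype]))
  subst hTtop
  haveI : IsSimpleGroup ↥N := ⟨fun M hM => hTmin M hM le_top⟩
  refine ⟨inferInstance, ?_⟩
  by_contra h
  push Not at h
  letI : CommGroup ↥N := { (inferInstance : Group ↥N) with mul_comm := h }
  refine hN ?_
  have hp : (Nat.card ↥N).Prime := IsSimpleGroup.prime_card
  have h3 : 3 ∣ Nat.card ↥N := by
    have := dvd_card_of_normal (M := N) hO hN1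
    exact this
  exact IsPGroup.of_card (n := 1) (by
    rw [pow_one]; exact ((Nat.prime_dvd_prime_iff_eq Nat.prime_three hp).1 h3).symm)

end

/-- Simple groups without real elements of order three. -/
theorem exists_iso_of_simple (hK : SThreeFree21.SThreeFreeSimple.{u}) {S : Type u} [Group S]
    [Finite S] [IsSimpleGroup S] (hnc : ∃ a b : S, a * b ≠ b * a) (hNR : NR S)
    (h3 : 3 ∣ Nat.card S) : ∃ f : ℕ, 1 ≤ f ∧ Nonempty (S ≃* L f) := by
  rcases hK S inferInstance hnc hNR.not_involves with h | ⟨F, _, _, n, hn, ⟨e⟩⟩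
  · exact absurd h3 (Goldschmidt92.three_not_dvd_suzuki
      (BenderSuzuki.Wrappers.isSuzuki_of_iso h))
  · refine ⟨n, ?_, ?_⟩
    · have h4 := CITSuzuki.Lists.five_le_of_simple hnc e
      by_contra h0
      obtain rfl : n = 0 := by omega
      norm_num at hn
      omega
    · haveI : Fintype (GaloisField 3 (2 * n + 1)) := Fintype.ofFinite _
      obtain ⟨e'⟩ := SmallGroups.ProjLine.psl_congr_card (F := F)
        (F' := GaloisField 3 (2 * n + 1)) (hn.trans (card_galois n).symm)
      exact ⟨e.trans e'⟩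

/-- The structure with trivial `3'`-core. -/
theorem isProd (hK : SThreeFree21.SThreeFreeSimple.{u}) : ∀ (m : ℕ) (Q : Type u) [Group Q]
    [Finite Q], Nat.card Q = m → NR Q → Gen2 Q → pPrimeCore 3 Q = ⊥ → IsProd Q := by
  intro m
  induction m using Nat.strong_induction_on with
  | _ m ih =>
  intro Q _ _ hm hNR hgen hO
  classical
  haveI : Fact (Nat.Prime 3) := ⟨Nat.prime_three⟩
  rcases subsingleton_or_nontrivial Q with hQ | hQ
  · exact isProd_of_subsingleton
  obtain ⟨N, hNn, hN1, hmin⟩ := Cores.MinNormal.exists_minimal (G := Q)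
  by_cases hN : IsPGroup 3 ↥N
  · exfalso
    have hc := le_center hNR hgen hN
    have hlt : Nat.card (Q ⧸ N) < m := by
      rw [← hm, Subgroup.card_eq_card_quotient_mul_card_subgroup N]
      exact lt_mul_of_one_lt_right Nat.card_pos
        (Finite.one_lt_card_iff_nontrivial.2 (N.nontrivial_iff_ne_bot.2 hN1))
    exact false_of_isPGroup hgen hN1 hN hc (ih _ hlt (Q ⧸ N) rfl
      (hNR.of_surjective _ (QuotientGroup.mk'_surjective N))
      (gen2_of_surjective hgen _ (QuotientGroup.mk'_surjective N))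
      (pPrimeCore_quotient_eq_bot hO hN hc))
  obtain ⟨hsimp, hnc⟩ := simple_of_minimal hNR hgen hO hN1 hmin hN
  obtain ⟨f₀, hf₀, ⟨e⟩⟩ := exists_iso_of_simple hK hnc (hNR.subgroup N)
    (dvd_card_of_normal hO hN1)
  set C := Subgroup.centralizer (N : Set Q) with hC
  haveI : C.Normal := Subgroup.normal_centralizer
  obtain ⟨P⟩ : Nonempty (Sylow 3 ↥N) := inferInstance
  haveI : Fintype (GaloisField 3 (2 * f₀ + 1)) := Fintype.ofFinite _
  have htop : N ⊔ C = ⊤ := by
    rw [eq_top_iff, ← sup_centralizer_sylow hNR hgen P]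
    refine sup_le le_sup_left fun c hc => ?_
    have hfix : ∀ x ∈ ((P.mapSurjective (show Function.Surjective e.toMonoidHom from e.surjective) : Sylow 3 (L f₀)) :
        Subgroup (L f₀)),
        ((e.symm.trans (MulAut.conjNormal c : MulAut ↥N)).trans e : MulAut (L f₀)) x = x := by
      intro x hx
      rw [Sylow.coe_mapSurjective] at hx
      obtain ⟨y, hy, rfl⟩ := hx
      show e ((MulAut.conjNormal c : MulAut ↥N) (e.symm (e y))) = e y
      rw [MulEquiv.symm_apply_apply]
      congr 1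
      refine Subtype.ext ?_
      rw [MulAut.conjNormal_apply, ← (Subgroup.mem_centralizer_iff.1 hc) y ⟨y, hy, rfl⟩,
        mul_inv_cancel_right]
    obtain ⟨g, hg⟩ := inner_of_fix_sylow (card_galois f₀) _ _ hfix
    have hcC : ((e.symm g : ↥N) : Q)⁻¹ * c ∈ C := by
      rw [hC, Subgroup.mem_centralizer_iff]
      intro x hx
      have h1 := congrArg (fun α : MulAut (L f₀) => e.symm (α (e ⟨x, hx⟩))) hg
      simp only [MulAut.conj_apply, map_mul, map_inv, MulEquiv.trans_apply,
        MulEquiv.symm_apply_apply] at h1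
      have h2 := congrArg Subtype.val h1
      simp only [Subgroup.coe_mul, Subgroup.coe_inv, MulAut.conjNormal_apply] at h2
      calc x * (((e.symm g : ↥N) : Q)⁻¹ * c)
          = ((e.symm g : ↥N) : Q)⁻¹ *
            (((e.symm g : ↥N) : Q) * x * ((e.symm g : ↥N) : Q)⁻¹) * c := by group
        _ = ((e.symm g : ↥N) : Q)⁻¹ * (c * x * c⁻¹) * c := by rw [h2]
        _ = ((e.symm g : ↥N) : Q)⁻¹ * c * x := by group
    have := mul_mem (Subgroup.mem_sup_left (T := C) (e.symm g).2) (Subgroup.mem_sup_right hcC)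
    rwa [mul_inv_cancel_left] at this
  have hinf : N ⊓ C = ⊥ := by
    rcases hmin (N ⊓ C) inferInstance inf_le_left with h | h
    · exact h
    · exfalso
      obtain ⟨a, b, hab⟩ := hnc
      exact hab (Subtype.ext ((Subgroup.mem_centralizer_iff.1 ((inf_eq_left.1 h) b.2)) a a.2))
  let μ : ↥N × ↥C →* Q := MonoidHom.noncommCoprod N.subtype C.subtype
    fun a b => (Subgroup.mem_centralizer_iff.1 b.2 a a.2)
  have hμ : Function.Bijective μ := by
    constructor
    · rw [injective_iff_map_eq_one]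
      rintro ⟨a, b⟩ h
      change (a : Q) * (b : Q) = 1 at h
      have hb : (a : Q) = ((b : Q))⁻¹ := eq_inv_of_mul_eq_one_left h
      have : (a : Q) ∈ N ⊓ C := Subgroup.mem_inf.2 ⟨a.2, by rw [hb]; exact C.inv_mem b.2⟩
      rw [hinf, Subgroup.mem_bot] at this
      rw [this] at hb
      exact Prod.ext (Subtype.ext this) (Subtype.ext (inv_eq_one.1 hb.symm))
    · intro q
      have hq : q ∈ N ⊔ C := htop ▸ Subgroup.mem_top q
      rw [Subgroup.mem_sup_of_normal_left] at hq
      obtain ⟨a, ha, b, hb, rfl⟩ := hq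
      exact ⟨(⟨a, ha⟩, ⟨b, hb⟩), rfl⟩
  let E : ↥N × ↥C ≃* Q := MulEquiv.ofBijective μ hμ
  have hlt : Nat.card ↥C < m := by
    rw [← hm, ← Nat.card_congr E.toEquiv, Nat.card_prod]
    exact lt_mul_of_one_lt_left Nat.card_pos
      (Finite.one_lt_card_iff_nontrivial.2 (N.nontrivial_iff_ne_bot.2 hN1))
  obtain ⟨k, f, hf, ⟨φ⟩⟩ := ih _ hlt ↥C rfl (hNR.subgroup C)
    (gen2_of_surjective hgen ((MonoidHom.snd ↥N ↥C).comp E.symm.toMonoidHom)
      (Prod.snd_surjective.comp E.symm.surjective))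
    (pPrimeCore_normal_eq_bot hO C)
  refine ⟨k + 1, Fin.cons f₀ f, ?_, ⟨?_⟩⟩
  · intro i
    refine Fin.cases ?_ ?_ i
    · simpa using hf₀
    · intro j; simpa using hf j
  exact (E.symm.trans (e.prodCongr φ)).trans
    (prodPi fun i : Fin (k + 1) => L (Fin.cons (α := fun _ => ℕ) f₀ f i))

/-- The converse. -/
theorem nr_of_isProd {G : Type u} [Group G] [Finite G] (h : IsProd (G ⧸ pPrimeCore 3 G)) :
    NR G := by
  haveI : Fact (Nat.Prime 3) := ⟨Nat.prime_three⟩
  classical
  obtain ⟨k, f, -, ⟨φ⟩⟩ := h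
  intro x g hx hg
  set e : G →* ((i : Fin k) → L (f i)) :=
    φ.toMonoidHom.comp (QuotientGroup.mk' (pPrimeCore 3 G)) with he
  have hx1 : e x ≠ 1 := by
    intro h
    have hmem : x ∈ pPrimeCore 3 G := by
      simpa [he] using h
    have hd := Subgroup.orderOf_dvd_natCard _ hmem
    rw [hx] at hd
    exact Cores.not_dvd_card_pPrimeCore 3 hd
  obtain ⟨i, hi⟩ : ∃ i, e x i ≠ 1 := by
    by_contra h
    push Not at h
    exact hx1 (funext h)
  haveI : Fintype (GaloisField 3 (2 * f i + 1)) := Fintype.ofFinite _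
  have hord : orderOf (e x i) = 3 := by
    refine orderOf_eq_prime ?_ hi
    rw [← Pi.pow_apply, ← map_pow, show x ^ 3 = 1 by rw [← hx]; exact pow_orderOf_eq_one x,
      map_one, Pi.one_apply]
  refine no_real (card_galois (f i)) hord (g := e g i) ?_
  rw [← Pi.inv_apply, ← map_inv e g, ← Pi.mul_apply, ← Pi.mul_apply, ← map_mul, ← map_mul, hg,
    map_inv, Pi.inv_apply]

/-- The statement. -/
theorem row4976 (hK : SThreeFree21.SThreeFreeSimple.{u}) {G : Type u} [Group G] [Finite G]
    (hgen : Gen2 G) :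
    (∀ x : G, orderOf x = 3 → ¬ IsConj x x⁻¹) ↔ IsProd (G ⧸ pPrimeCore 3 G) := by
  haveI : Fact (Nat.Prime 3) := ⟨Nat.prime_three⟩
  rw [← nr_iff]
  refine ⟨fun h => ?_, nr_of_isProd⟩
  exact isProd hK _ _ rfl (h.of_surjective _ (QuotientGroup.mk'_surjective _))
    (gen2_of_surjective hgen _ (QuotientGroup.mk'_surjective _))
    (Cores.pPrimeCore_quotient_pPrimeCore 3)

end Cfsg.Agent.Lib.NoRealThree57
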