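import Cfsg.Agent.Lib.AutPSL.Main
import Cfsg.Agent.Lib.GWConsumers31.AutPSLTwo
import Cfsg.Agent.Lib.Linear.Order

/-!
# `PSL₂(3 ^ (2 n + 1))`: the unipotent Sylow subgroup

No element of order three is real, and an automorphism fixing a Sylow `3`-subgroup element-wise is
inner.
-/

set_option autoImplicit false
set_option linter.style.haveILetI false
set_option linter.unusedSectionVars false

namespace Cfsg.Agent.Lib.NoRealThree57

open Matrix Cfsg.Agent.Lib.AutPSL

universe u

variable {F : Type u} [Field F]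

local notation "SL2" => Matrix.SpecialLinearGroup (Fin 2) F
local notation "PSL2" => Matrix.ProjectiveSpecialLinearGroup (Fin 2) F

/-- The upper unitriangular matrix. -/
def up (x : F) : SL2 := ⟨!![1, x; 0, 1], by simp [Matrix.det_fin_two_of]⟩

/-- The torus. -/
def tor (a : Fˣ) : SL2 := ⟨!![(a : F), 0; 0, ((a⁻¹ : Fˣ) : F)], by simp [Matrix.det_fin_two_of]⟩

theorem coe_up (x : F) : ((up x : SL2) : Matrix (Fin 2) (Fin 2) F) = !![1, x; 0, 1] := rfl

theorem coe_tor (a : Fˣ) :
    ((tor a : SL2) : Matrix (Fin 2) (Fin 2) F) = !![(a : F), 0; 0, ((a⁻¹ : Fˣ) : F)] := rfl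

theorem up_add (x y : F) : up (x + y) = up x * up y := by
  apply Matrix.SpecialLinearGroup.ext
  intro i j
  fin_cases i <;> fin_cases j <;>
    simp [Matrix.SpecialLinearGroup.coe_mul, coe_up, Matrix.mul_apply, Fin.sum_univ_two, add_comm]

/-- The unipotent subgroup as a homomorphism. -/
def upHom : Multiplicative F →* PSL2 where
  toFun x := QuotientGroup.mk (up x.toAdd)
  map_one' := by
    rw [show up (Multiplicative.toAdd (1 : Multiplicative F)) = (1 : SL2) from Subtype.ext (by
      ext i j; fin_cases i <;> fin_cases j <;> simp [up])]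
    rfl
  map_mul' x y := by
    rw [← QuotientGroup.mk_mul, ← up_add]
    rfl

theorem upHom_apply (x : F) :
    upHom (Multiplicative.ofAdd x) = (QuotientGroup.mk (up x) : PSL2) := rfl

theorem upHom_injective : Function.Injective (upHom : Multiplicative F →* PSL2) := by
  intro x y h
  obtain ⟨c, hc⟩ := (mk_eq_mk_iff _ _).1 (h : (QuotientGroup.mk (up x.toAdd) : PSL2) =
    QuotientGroup.mk (up y.toAdd))
  have h00 := congrFun (congrFun hc 0) 0
  have h01 := congrFun (congrFun hc 0) 1
  simp [up] at h00 h01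
  refine Multiplicative.toAdd.injective ?_
  rw [h01, ← h00, one_mul]

theorem tor_conj (a : Fˣ) (x : F) :
    (QuotientGroup.mk (tor a) : PSL2) * QuotientGroup.mk (up x) * (QuotientGroup.mk (tor a))⁻¹ =
      QuotientGroup.mk (up ((a : F) * a * x)) := by
  rw [mul_inv_eq_iff_eq_mul, ← QuotientGroup.mk_mul, ← QuotientGroup.mk_mul]
  refine congrArg _ ?_
  apply Matrix.SpecialLinearGroup.ext
  intro i j
  fin_cases i <;> fin_cases j <;>
    simp [Matrix.SpecialLinearGroup.coe_mul, coe_up, coe_tor, Matrix.mul_apply, Fin.sum_univ_two]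
  field_simp

section Finite

variable [Fintype F] {n : ℕ} (hF : Fintype.card F = 3 ^ (2 * n + 1))
include hF

theorem card_mod_four : Fintype.card F % 4 = 3 := by
  rw [hF, pow_succ, pow_mul, Nat.mul_mod, Nat.pow_mod]; norm_num

theorem not_isSquare_neg_one : ¬ IsSquare (-1 : F) := fun h =>
  FiniteField.isSquare_neg_one_iff.1 h (card_mod_four hF)

theorem card_range_upHom :
    Nat.card (upHom : Multiplicative F →* PSL2).range = 3 ^ (2 * n + 1) := by
  rw [← hF, ← Nat.card_eq_fintype_card (α := F)]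
  exact Nat.card_congr ((MonoidHom.ofInjective upHom_injective).symm.toEquiv.trans
    Multiplicative.toAdd)

theorem isPGroup_range_upHom : IsPGroup 3 (upHom : Multiplicative F →* PSL2).range :=
  IsPGroup.of_card (card_range_upHom hF)

theorem not_dvd_index_range_upHom : ¬ 3 ∣ (upHom : Multiplicative F →* PSL2).range.index := by
  classical
  have h := Linear.two_mul_card_PSL_two_of_odd (F := F) (Nat.odd_iff.2 (by
    have := card_mod_four hF; omega))
  rw [← Subgroup.card_mul_index (upHom : Multiplicative F →* PSL2).range,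
    card_range_upHom hF, hF] at h
  set q := 3 ^ (2 * n + 1) with hq
  set i := (upHom : Multiplicative F →* PSL2).range.index with hi
  have hq0 : 0 < q := Nat.pow_pos (by norm_num)
  have h' : 2 * i = (q - 1) * (q + 1) := by
    refine Nat.eq_of_mul_eq_mul_left hq0 ?_
    linarith [h]
  intro h3
  have h3q : 3 ∣ q := dvd_pow_self 3 (by omega)
  have h4 : 3 ∣ (q - 1) * (q + 1) := h' ▸ dvd_mul_of_dvd_right h3 2
  rcases (Nat.prime_three.dvd_mul).1 h4 with h5 | h5 <;> omega

/-- The unipotent Sylow subgroup. -/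
noncomputable def upSylow : Sylow 3 PSL2 :=
  haveI : Fact (Nat.Prime 3) := ⟨Nat.prime_three⟩
  (isPGroup_range_upHom hF).toSylow (not_dvd_index_range_upHom hF)

theorem coe_upSylow : ((upSylow hF : Sylow 3 PSL2) : Subgroup PSL2) = upHom.range := rfl

theorem exists_conj_up {x : PSL2} {k : ℕ} (hx : x ^ 3 ^ k = 1) :
    ∃ (g : PSL2) (a : F), g * x * g⁻¹ = QuotientGroup.mk (up a) := by
  haveI : Fact (Nat.Prime 3) := ⟨Nat.prime_three⟩
  have hp : IsPGroup 3 (Subgroup.zpowers x) := by
    obtain ⟨j, -, hj⟩ := (Nat.dvd_prime_pow Nat.prime_three).1 (orderOf_dvd_of_pow_eq_one hx)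
    exact IsPGroup.of_card ((Nat.card_zpowers x).trans hj)
  obtain ⟨P, hP⟩ := hp.exists_le_sylow
  obtain ⟨g, hg⟩ := MulAction.exists_smul_eq PSL2 P (upSylow hF)
  have : g * x * g⁻¹ ∈ ((upSylow hF : Sylow 3 PSL2) : Subgroup PSL2) := by
    rw [← hg]
    exact Subgroup.mem_pointwise_smul_iff_inv_smul_mem.2
      (by simpa [mul_assoc] using hP (Subgroup.mem_zpowers x))
  rw [coe_upSylow] at this
  obtain ⟨a, ha⟩ := this
  exact ⟨g, a.toAdd, ha.symm⟩

theorem no_real {x g : PSL2} (hx : orderOf x = 3) : g * x * g⁻¹ ≠ x⁻¹ := by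
  intro hg
  obtain ⟨c, a, hc⟩ := exists_conj_up hF (k := 1) (x := x)
    (by rw [pow_one, ← hx, pow_orderOf_eq_one])
  have ha : a ≠ 0 := by
    rintro rfl
    have h1 : c * x * c⁻¹ = 1 := by
      rw [hc, ← upHom_apply, ofAdd_zero, map_one]
    rw [conj_eq_one_iff] at h1
    rw [h1, orderOf_one] at hx
    omega
  obtain ⟨s, hs⟩ := QuotientGroup.mk_surjective (c * g * c⁻¹)
  have hg' : (QuotientGroup.mk (up (-a) * s) : PSL2) = QuotientGroup.mk (s * up a) := by
    rw [QuotientGroup.mk_mul, QuotientGroup.mk_mul, hs, ← hc, ← upHom_apply, ofAdd_neg, map_inv,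
      upHom_apply, ← hc, show (c * x * c⁻¹)⁻¹ = c * x⁻¹ * c⁻¹ by group, ← hg]
    group
  obtain ⟨t, ht⟩ := (mk_eq_mk_iff _ _).1 hg'
  have e00 := congrFun (congrFun ht 0) 0
  have e01 := congrFun (congrFun ht 0) 1
  have e10 := congrFun (congrFun ht 1) 0
  simp [Matrix.SpecialLinearGroup.coe_mul, coe_up, Matrix.mul_apply, Matrix.vecMul, dotProduct, Fin.sum_univ_two] at e00 e01 e10
  have hd := s.det_coe
  rw [Matrix.det_fin_two] at hd
  set A := (s : Matrix (Fin 2) (Fin 2) F) 0 0
  set B := (s : Matrix (Fin 2) (Fin 2) F) 0 1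
  set C := (s : Matrix (Fin 2) (Fin 2) F) 1 0
  set D := (s : Matrix (Fin 2) (Fin 2) F) 1 1
  have hC : C = 0 := by
    by_contra hC
    have ht1 : t = 1 := mul_right_cancel₀ hC (by linear_combination -e10)
    subst ht1
    exact hC (mul_left_cancel₀ ha (by linear_combination e00))
  rw [hC] at e00 hd
  have hA : A ≠ 0 := by intro h; rw [h] at hd; simp at hd
  have ht1 : t = 1 := mul_right_cancel₀ hA (by linear_combination -e00)
  subst ht1
  have hAD : A = -D := mul_right_cancel₀ ha (by linear_combination e01)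
  refine not_isSquare_neg_one hF ⟨A, ?_⟩
  linear_combination hd - A * hAD

/-- An automorphism fixing the unipotent subgroup element-wise is inner. -/
theorem inner_of_fix_up (α : MulAut PSL2)
    (h : ∀ x : F, α (QuotientGroup.mk (up x)) = QuotientGroup.mk (up x)) :
    α ∈ Cfsg.Inn PSL2 := by
  classical
  obtain ⟨g, σ, γ, hγ, rfl⟩ := exists_decomp (n := 2) le_rfl α
  obtain rfl : γ = 1 := hγ.resolve_right fun h => absurd h.1 (by norm_num)
  rw [mul_one] at h ⊢
  have key : ∀ x : F, ∃ c : F, (up x : Matrix (Fin 2) (Fin 2) F) * (g : Matrix (Fin 2) (Fin 2) F) =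
      c • ((g : Matrix (Fin 2) (Fin 2) F) * (fieldSL σ (up x) : SL2)) := by
    intro x
    obtain ⟨c, hc⟩ := (mk_eq_mk_iff (conjSL g (fieldSL σ (up x))) (up x)).1 (h x)
    refine ⟨c, ?_⟩
    rw [hc, coe_conjSL, Matrix.smul_mul, Matrix.mul_assoc, Units.inv_mul, Matrix.mul_one]
  set A := (g : Matrix (Fin 2) (Fin 2) F) 0 0 with hA'
  set B := (g : Matrix (Fin 2) (Fin 2) F) 0 1 with hB'
  set C := (g : Matrix (Fin 2) (Fin 2) F) 1 0 with hC'
  set D := (g : Matrix (Fin 2) (Fin 2) F) 1 1 with hD'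
  have hdet : A * D - B * C ≠ 0 := by
    have := Matrix.GeneralLinearGroup.det g |>.ne_zero
    simpa [Matrix.GeneralLinearGroup.val_det_apply, Matrix.det_fin_two, hA', hB', hC', hD'] using this
  have ent : ∀ x : F, ∃ c : F, A + x * C = c * A ∧ B + x * D = c * (A * σ x + B) ∧ C = c * C := by
    intro x
    obtain ⟨c, hc⟩ := key x
    have e00 := congrFun (congrFun hc 0) 0
    have e01 := congrFun (congrFun hc 0) 1
    have e10 := congrFun (congrFun hc 1) 0
    simp [coe_up, coe_fieldSL, Matrix.mul_apply, Matrix.vecMul, dotProduct, Fin.sum_univ_two] at e00 e01 e10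
    refine ⟨c, ?_, ?_, ?_⟩ <;> first | linear_combination e00 | linear_combination e01 | linear_combination e10
  have hC : C = 0 := by
    obtain ⟨c, h00, -, h10⟩ := ent 1
    by_contra hC
    have hc1 : c = 1 := mul_right_cancel₀ hC (by linear_combination -h10)
    subst hc1
    exact hC (by linear_combination h00)
  rw [hC] at hdet
  have hA : A ≠ 0 := by intro h; rw [h] at hdet; simp at hdet
  have hlin : ∀ x : F, x * D = A * σ x := by
    intro x
    obtain ⟨c, h00, h01, -⟩ := ent x
    rw [hC] at h00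
    have hc1 : c = 1 := mul_right_cancel₀ hA (by linear_combination -h00)
    subst hc1
    linear_combination h01
  have hDA : D = A := by
    have := hlin 1
    rw [map_one] at this
    linear_combination this
  have hσ : σ = 1 := RingEquiv.ext fun x => mul_left_cancel₀ hA (by
    show A * σ x = A * x
    rw [← hlin x, hDA]; ring)
  rw [hσ, map_one, mul_one]
  refine GWConsumers31.conjAut_mem_inn (c := Units.mk0 A hA) (Units.ext ?_)
  simp [Matrix.GeneralLinearGroup.val_det_apply, Matrix.det_fin_two, ← hA', ← hB', ← hC', ← hD', hC, hDA, pow_two]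

/-- An automorphism fixing a Sylow `3`-subgroup element-wise is inner. -/
theorem inner_of_fix_sylow (α : MulAut PSL2) (P : Sylow 3 PSL2)
    (h : ∀ x ∈ (P : Subgroup PSL2), α x = x) : α ∈ Cfsg.Inn PSL2 := by
  haveI : Fact (Nat.Prime 3) := ⟨Nat.prime_three⟩
  obtain ⟨g, hg⟩ := MulAction.exists_smul_eq PSL2 (upSylow hF) P
  have h' : ∀ x : F, ((MulAut.conj g)⁻¹ * α * MulAut.conj g) (QuotientGroup.mk (up x)) =
      QuotientGroup.mk (up x) := by
    intro x
    have hm : g * QuotientGroup.mk (up x) * g⁻¹ ∈ (P : Subgroup PSL2) := by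
      rw [← hg]
      refine Subgroup.mem_pointwise_smul_iff_inv_smul_mem.2 ?_
      show _ ∈ (upHom : Multiplicative F →* PSL2).range
      exact ⟨Multiplicative.ofAdd x, by rw [upHom_apply]; simp [mul_assoc]⟩
    show (MulAut.conj g)⁻¹ (α (MulAut.conj g (QuotientGroup.mk (up x)))) = _
    rw [MulAut.conj_apply, h _ hm, MulAut.conj_inv_apply]
    group
  have h1 := inner_of_fix_up hF _ h'
  have hc : MulAut.conj g ∈ Cfsg.Inn PSL2 := ⟨g, rfl⟩
  have h2 := mul_mem (mul_mem hc h1) (inv_mem hc)
  simpa [mul_assoc] using h2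

end Finite

end Cfsg.Agent.Lib.NoRealThree57
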